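import Groth.Agent.DRing.RelPerf10.Local
import Groth.Agent.DRing.BaseChangeAmp
import Groth.Agent.DRing.PCDescent
import Groth.Agent.FlatMor.FlatLemmas
import Groth.Agent.FlatOpen.API

/-!
# Relative perfection from the fibres
-/

set_option linter.all false

universe u

open CategoryTheory CategoryTheory.Limits DerivedCategory MonoidalCategory
open scoped TensorProduct

attribute [local instance] HasDerivedCategory.standard

namespace Groth.Agent.DRing.RelPerf10

open DBasic Homology KFlat

variable {R A : Type u} [CommRing R] [CommRing A] [Algebra R A] {d : ℕ}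

/-- Exactness on a fibre localizes. -/
theorem exactAt_fibre_localize [Module.Flat R A] (q : Ideal A) [q.IsPrime]
    (p : Ideal R) [p.IsPrime] (hpq : p = Ideal.comap (algebraMap R A) q) (E : DRing.Cx A) (i : ℤ)
    (h : (DRing.tensorCx ((DRing.restrictCx (algebraMap R A)).obj E)
      (ModuleCat.of R p.ResidueField)).ExactAt i) :
    (DRing.tensorCx ((DRing.restrictCx (Localization.localRingHom p q (algebraMap R A) hpq)).obj
        ((LTensor.extCx (algebraMap A (Localization.AtPrime q))).obj E))
      (ModuleCat.of (Localization.AtPrime p) p.ResidueField)).ExactAt i := by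
  let k := p.ResidueField
  let L := Localization.AtPrime q
  let Rp := Localization.AtPrime p
  let loc : Rp →+* L := Localization.localRingHom p q (algebraMap R A) hpq
  letI : Algebra Rp L := loc.toAlgebra
  haveI : IsScalarTower R Rp L := IsScalarTower.of_algebraMap_eq fun x => by
    rw [RingHom.algebraMap_toAlgebra, Localization.localRingHom_to_map]
    exact IsScalarTower.algebraMap_apply R A L x
  let C := k ⊗[R] A
  let Cq := k ⊗[R] L
  let χA : A →+* C := (Algebra.TensorProduct.includeRight : A →ₐ[R] C).toRingHom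
  let χL : L →+* Cq := (Algebra.TensorProduct.includeRight : L →ₐ[R] Cq).toRingHom
  let vA : A ⊗[R] k ≃ₗ[A] (ModuleCat.restrictScalars.{u} χA).obj (ModuleCat.of C C) :=
    { (TensorProduct.comm R A k).toAddEquiv with
      map_smul' := fun r x => by
        change TensorProduct.comm R A _ (r • x) = χA r * TensorProduct.comm R A _ x
        induction x using TensorProduct.induction_on with
        | zero => simp
        | tmul s t => exact (congrArg (fun y => y ⊗ₜ[R] (r * s)) (one_mul t).symm).trans (Algebra.TensorProduct.tmul_mul_tmul 1 t r s).symm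
        | add x y hx hy => simp only [smul_add, map_add, mul_add, hx, hy] }
  have h1 := (FlatFibres.exactAt_tensor_restrict_iff k χA vA E i).1 h
  let g : C →+* Cq := (Algebra.TensorProduct.map (AlgHom.id R k) (IsScalarTower.toAlgHom R A L)).toRingHom
  letI : Algebra C Cq := g.toAlgebra
  haveI : IsScalarTower k C Cq := IsScalarTower.of_algebraMap_eq (R := k) (S := C) (A := Cq) fun x => by
    show x ⊗ₜ[R] (1 : L) = x ⊗ₜ[R] algebraMap A L 1
    rw [map_one]
  haveI : IsLocalization (q.primeCompl.map (Algebra.TensorProduct.includeRight (R := R) (A := k))) Cq :=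
    IsLocalization.tensorProduct_tensorProduct_right R k q.primeCompl L (by ext x; rfl)
  have hg : g.Flat :=
    (IsLocalization.flat Cq (q.primeCompl.map (Algebra.TensorProduct.includeRight (R := R) (A := k))) :)
  have h2 : ((LTensor.extCx g).obj ((LTensor.extCx χA).obj E)).ExactAt i := by
    rw [HomologicalComplex.exactAt_iff_isZero_homology] at h1 ⊢
    exact ((ModuleCat.extendScalars.{u, u, u} g).map_isZero h1).of_iso (PCDescent.homologyExtIso g hg _ i)
  have hcomp : g.comp χA = χL.comp (algebraMap A L) := RingHom.ext fun x => rfl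
  have j1 : (LTensor.extCx (g.comp χA)).obj E ≅ (LTensor.extCx g).obj ((LTensor.extCx χA).obj E) :=
    (NatIso.mapHomologicalComplex (ModuleCat.extendScalarsComp.{u} χA g) (ComplexShape.up ℤ)).app E
  have j2 : (LTensor.extCx (g.comp χA)).obj E ≅
      (LTensor.extCx χL).obj ((LTensor.extCx (algebraMap A L)).obj E) :=
    (NatIso.mapHomologicalComplex (eqToIso (by rw [hcomp]) ≪≫ ModuleCat.extendScalarsComp.{u} (algebraMap A L) χL)
      (ComplexShape.up ℤ)).app E
  have h3 := (TorAmp.exactAt_iff_of_quasiIso (j1.symm ≪≫ j2).hom i).1 h2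
  let μ : k ⊗[Rp] L ≃ₗ[Rp] k ⊗[R] L := IsLocalization.moduleTensorEquiv p.primeCompl Rp k L
  have hμ : ∀ (x : k) (y : L), μ (x ⊗ₜ y) = x ⊗ₜ y := fun x y => rfl
  let vL : L ⊗[Rp] k ≃ₗ[L] (ModuleCat.restrictScalars.{u} χL).obj (ModuleCat.of _ Cq) :=
    { (TensorProduct.comm Rp L k ≪≫ₗ μ).toAddEquiv with
      map_smul' := fun r x => by
        change μ (TensorProduct.comm Rp L k (r • x)) = χL r * μ (TensorProduct.comm Rp L k x)
        induction x using TensorProduct.induction_on with
        | zero => simp
        | tmul s t =>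
          rw [TensorProduct.smul_tmul', TensorProduct.comm_tmul, TensorProduct.comm_tmul, hμ, hμ]
          show t ⊗ₜ[R] (r * s) = ((1 : k) ⊗ₜ[R] r) * (t ⊗ₜ[R] s)
          rw [Algebra.TensorProduct.tmul_mul_tmul, one_mul]
        | add x y hx hy => simp only [smul_add, map_add, mul_add, hx, hy] }
  exact (FlatFibres.exactAt_tensor_restrict_iff (A := Rp) k χL vL _ i).2 h3

/-- The cokernel of a differential. -/
abbrev coker (E : DRing.Cx A) (j : ℤ) : Type u := E.X j ⧸ LinearMap.range (E.d (j - 1) j).hom

/-- `M_q` is flat over `R`, in tensor form. -/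
abbrev FlatAt' (q : Ideal A) [q.IsPrime] (M : Type u) [AddCommGroup M] [Module A M] : Prop :=
  Module.Flat R (Localization.AtPrime q ⊗[A] M)

lemma flatAt'_iff (q : Ideal A) [q.IsPrime] (M : Type u) [AddCommGroup M] [Module A M] [Module R M]
    [IsScalarTower R A M] :
    FlatAt' (R := R) q M ↔ Module.Flat R (LocalizedModule q.primeCompl M) :=
  (Module.Flat.equiv_iff ((LocalizedModule.equivTensorProduct q.primeCompl M).restrictScalars R)).symm

/-- The step from a degree to the one below. -/
lemma flatAt'_pred [Module.Flat R A] (E : DRing.Cx A) (hf : ∀ i, Module.Flat A (E.X i)) (j : ℤ)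
    (hex : E.ExactAt j) (q : Ideal A) [q.IsPrime] (h : FlatAt' (R := R) q (coker E (j + 1))) :
    FlatAt' (R := R) q (coker E j) := by
  let L := Localization.AtPrime q
  have he : LinearMap.ker (E.d j (j + 1)).hom = LinearMap.range (E.d (j - 1) j).hom := by
    have h' := (HomologicalComplex.exactAt_iff' E (j - 1) j (j + 1) (by simp) (by simp)).1 hex
    exact (LinearMap.exact_iff.1 ((FlatFibres.exact_iff_function_exact _).1 h'))
  let ι : coker E j →ₗ[A] E.X (j + 1) := Submodule.liftQ _ (E.d j (j + 1)).hom he.ge
  have hι : Function.Injective ι := by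
    rw [← LinearMap.ker_eq_bot, Submodule.ker_liftQ_eq_bot _ _ _ he.le]
  let π : E.X (j + 1) →ₗ[A] coker E (j + 1) := (LinearMap.range (E.d (j + 1 - 1) (j + 1)).hom).mkQ
  have hπ : Function.Surjective π := Submodule.mkQ_surjective _
  have hex' : Function.Exact ι π := by
    rw [LinearMap.exact_iff, Submodule.ker_mkQ, Submodule.range_liftQ]
    rw [show j + 1 - 1 = j by omega]
  haveI : Module.Flat A L := IsLocalization.flat L q.primeCompl
  let f := ((π.baseChange L).restrictScalars R)
  have hf1 : Function.Surjective f := LinearMap.lTensor_surjective L hπ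
  haveI : Module.Flat R L := Module.Flat.trans R A L
  haveI : Module.Flat R (L ⊗[A] E.X (j + 1)) := by
    haveI := hf (j + 1)
    exact Module.Flat.trans R L (L ⊗[A] E.X (j + 1))
  haveI : Module.Flat R (L ⊗[A] coker E (j + 1)) := h
  haveI := FlatMor.FlatLemmas.flat_ker f hf1
  let ι' : L ⊗[A] coker E j →ₗ[R] LinearMap.ker f :=
    LinearMap.codRestrict _ ((ι.baseChange L).restrictScalars R) fun x =>
      ((lTensor_exact L hex' hπ) _).2 ⟨x, rfl⟩
  have hι' : Function.Bijective ι' := by
    refine ⟨fun x y hxy => Module.Flat.lTensor_preserves_injective_linearMap (M := L) ι hι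
      (congrArg Subtype.val hxy), fun y => ?_⟩
    obtain ⟨x, hx⟩ := ((lTensor_exact L hex' hπ) y.1).1 y.2
    exact ⟨x, Subtype.ext hx⟩
  exact Module.Flat.of_linearEquiv (LinearEquiv.ofBijective ι' hι')


set_option maxHeartbeats 600000 in
lemma exists_flatAt' [Module.Flat R A] [Algebra.FinitePresentation R A]
    (ψ : MvPolynomial (Fin d) R →ₐ[R] A) (hψ : Function.Surjective ψ)
    (E : DRing.Cx A) (c : ℤ) (hc : DRing.VanishesAbove E c) (hf : DRing.TermwiseFiniteFree E)
    (q : Ideal A) [q.IsPrime] (a : ℤ)
    (h : ∀ i, i < a → (DRing.tensorCx ((DRing.restrictCx (algebraMap R A)).obj E)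
      (ModuleCat.of R (q.comap (algebraMap R A)).ResidueField)).ExactAt i) (j : ℤ) (hj : j ≤ a - d) :
    FlatAt' (R := R) q (coker E j) := by
  let p := q.comap (algebraMap R A)
  let L := Localization.AtPrime q
  let φ := algebraMap A L
  let F := (LTensor.extCx φ).obj E
  have hfl : ∀ i, Module.Flat A (E.X i) := fun i => have := (hf i).2; inferInstance
  have hFc : DRing.VanishesAbove F c := fun i hi => Perfect.isZero_extCx φ (hc i hi)
  have hFf : ∀ i, Module.Flat L (F.X i) := fun i => Perfect.flat_extendScalars φ (hfl i)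
  have hpc : DRing.IsPseudoCoherent' L (DRing.toD F) :=
    ⟨F, c, hFc, fun i => ⟨Perfect.finite_extendScalars φ (hf i).1, Perfect.free_extendScalars φ (hf i).2⟩,
      ⟨Iso.refl _⟩⟩
  have hT := torAmp_of_fibre ψ hψ q p rfl F c hFc hFf hpc a c fun i hi => by
    refine exactAt_fibre_localize q p rfl E i ?_
    rcases hi with hi | hi
    · exact h i hi
    · exact ((DRing.tensorCx _ _).exactAt_iff i).2 (ShortComplex.exact_of_isZero_X₂ _
        ((tensorRight _).map_isZero ((ModuleCat.restrictScalars.{u} (algebraMap R A)).map_isZero (hc i hi))))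
  haveI : Module.Flat R L := Module.Flat.trans R A L
  let X := (DRing.restrictCx (algebraMap R L)).obj F
  have hXf : ∀ i, Module.Flat R (X.X i) := fun i => by
    let N : Type u := F.X i
    letI : Module R N := Module.compHom N (algebraMap R L)
    haveI : IsScalarTower R L N := IsScalarTower.of_algebraMap_smul fun _ _ => rfl
    haveI : Module.Flat L N := hFf i
    exact Module.Flat.trans R L N
  have hX : IsKFlat X := isKFlat_of_boundedAbove_flat _ c
    (fun i hi => (ModuleCat.restrictScalars.{u} (algebraMap R L)).map_isZero (hFc i hi)) hXf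
  have hv := (TorAmp.hasTorAmp_iff hX (TensorAmp.restrictDIso (algebraMap R L) (Iso.refl _)) (a - d) c).1 hT
  have hflat := TorAmp.flat_coker hXf j fun M => hv M (j - 1) (Or.inl (by omega))
  let Lr : ModuleCat.{u} A := (ModuleCat.restrictScalars.{u} φ).obj (ModuleCat.of L L)
  let w : Lr ≃ₗ[A] L :=
    { toFun := fun y => y
      invFun := fun y => y
      left_inv := fun _ => rfl
      right_inv := fun _ => rfl
      map_add' := fun _ _ => rfl
      map_smul' := fun r y => (Algebra.smul_def r (show L from y)).symm }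
  let Q := LinearMap.range (E.d (j - 1) j).hom
  let μ : TensorProduct A Lr (E.X j) →ₗ[A] L ⊗[A] coker E j := TensorProduct.map w.toLinearMap Q.mkQ
  have hμt : ∀ (y : Lr) (m : E.X j), μ (y ⊗ₜ m) = w y ⊗ₜ Q.mkQ m := fun y m => rfl
  have key : ∀ (r : R) (t : TensorProduct A Lr (E.X j)),
      μ (show TensorProduct A Lr (E.X j) from algebraMap R L r • (show F.X j from t)) = r • μ t := by
    intro r t
    induction t using TensorProduct.induction_on with
    | zero =>
      exact (congrArg μ (smul_zero (A := F.X j) (algebraMap R L r))).trans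
        ((map_zero μ).trans ((congrArg (r • ·) (map_zero μ)).trans (smul_zero r)).symm)
    | tmul y m =>
      show μ ((show Lr from algebraMap R L r * (show L from y)) ⊗ₜ[A] m) = r • μ (y ⊗ₜ[A] m)
      rw [hμt, hμt]
      show (algebraMap R L r * w y) ⊗ₜ[A] Q.mkQ m = _
      rw [← Algebra.smul_def, TensorProduct.smul_tmul']
    | add y z hy hz =>
      exact (congrArg μ (smul_add (algebraMap R L r) (show F.X j from y) (show F.X j from z))).trans
        ((map_add μ _ _).trans ((congrArg₂ (· + ·) hy hz).trans
          ((smul_add r _ _).symm.trans (congrArg (r • ·) (map_add μ y z).symm))))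
  let π : X.X j →ₗ[R] L ⊗[A] coker E j :=
    { toFun := fun x => μ x
      map_add' := fun x y => map_add μ _ _
      map_smul' := fun r x => key r x }
  have hπ : Function.Surjective π := TensorProduct.map_surjective w.surjective Q.mkQ_surjective
  have hker : LinearMap.range (X.d (j - 1) j).hom = LinearMap.ker π := by
    ext x
    have hh := lTensor_exact Lr (f := (E.d (j - 1) j).hom) (g := Q.mkQ)
      (LinearMap.exact_iff.2 (Submodule.ker_mkQ _)) (Submodule.mkQ_surjective _)
    refine Iff.trans ?_ (LinearMap.mem_ker (f := π)).symm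
    refine Iff.trans (hh x).symm ?_
    have hfac : ∀ z : TensorProduct A Lr (E.X j),
        μ z = (TensorProduct.congr w (LinearEquiv.refl A (coker E j))) (Q.mkQ.lTensor Lr z) := fun z => by
      induction z using TensorProduct.induction_on with
      | zero => simp
      | tmul y m => rfl
      | add y z hy hz => simp only [map_add, hy, hz]
    show _ ↔ μ x = 0
    rw [hfac, LinearEquiv.map_eq_zero_iff]
  exact Module.Flat.of_linearEquiv
    (((Submodule.quotEquivOfEq _ _ hker).trans (π.quotKerEquivOfSurjective hπ)).symm)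

/-- Relative perfection from boundedness and the fibres. -/
theorem isRelPerfect_of_fibres [Module.Flat R A] [Algebra.FinitePresentation R A]
    (K : Dual.D A) (hK : DRing.IsPseudoCoherent' A K) (a₀ : ℤ)
    (ha : ∀ i : ℤ, i < a₀ → Subsingleton (Dual.HD A K i))
    (h : ∀ (E : DRing.Cx A) (c : ℤ), DRing.VanishesAbove E c → DRing.TermwiseFiniteFree E →
      Nonempty (DRing.toD E ≅ K) → ∀ p : PrimeSpectrum R, ∃ a : ℤ, ∀ i, i < a →
        (DRing.tensorCx ((DRing.restrictCx (algebraMap R A)).obj E)
          (ModuleCat.of R p.asIdeal.ResidueField)).ExactAt i) :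
    Dual2.IsRelPerfect R A K := by
  obtain ⟨d, ψ, hψ⟩ := Algebra.FiniteType.iff_quotient_mvPolynomial''.mp (inferInstance : Algebra.FiniteType R A)
  obtain ⟨E, c, hc, hf, ⟨e⟩⟩ := hK
  have hfl : ∀ i, Module.Flat A (E.X i) := fun i => have := (hf i).2; inferInstance
  have hex : ∀ i, i < a₀ → E.ExactAt i := fun i hi => by
    rw [HomologicalComplex.exactAt_iff_isZero_homology, ← subsingleton_HD_toD_iff]
    exact (subsingleton_HD_congr e i).2 (ha i hi)
  haveI : ∀ j, Module.FinitePresentation A (coker E j) := fun j => by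
    have := (hf j).1
    have := (hf (j - 1)).1
    have := (hf j).2
    have : Module.FinitePresentation A (E.X j) := Module.finitePresentation_of_projective _ _
    exact Module.finitePresentation_of_surjective (LinearMap.range (E.d (j - 1) j).hom).mkQ
      (Submodule.mkQ_surjective _) (by rw [Submodule.ker_mkQ]; exact Module.Finite.iff_fg.1 inferInstance)
  letI : ∀ j, Module R (coker E j) := fun j => Module.compHom _ (algebraMap R A)
  haveI : ∀ j, IsScalarTower R A (coker E j) := fun j => IsScalarTower.of_algebraMap_smul fun _ _ => rfl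
  let U : {j : ℤ // j ≤ a₀} → Set (PrimeSpectrum A) := fun j =>
    {q | Module.Flat R (LocalizedModule q.asIdeal.primeCompl (coker E j.1))}
  have hU : ∀ j, IsOpen (U j) := fun j => FlatOpen.isOpen_flatLocus R A (coker E j.1)
  have hdown : ∀ (n : ℕ) (j : ℤ), j + n ≤ a₀ → ∀ q : PrimeSpectrum A,
      FlatAt' (R := R) q.asIdeal (coker E (j + n)) → FlatAt' (R := R) q.asIdeal (coker E j) := by
    intro n
    induction n with
    | zero => intro j _ q hq; rwa [show j + ((0 : ℕ) : ℤ) = j by simp] at hq
    | succ n ih =>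
      intro j hj q hq
      refine ih j (by push_cast at hj ⊢; omega) q ?_
      refine flatAt'_pred E hfl _ (hex _ (by push_cast at hj ⊢; omega)) q.asIdeal ?_
      rwa [show (j + (n : ℤ) + 1) = j + ((n + 1 : ℕ) : ℤ) by push_cast; ring]
  have hcov : (Set.univ : Set (PrimeSpectrum A)) ⊆ ⋃ j, U j := by
    intro q _
    obtain ⟨a, ha'⟩ := h E c hc hf ⟨e⟩ ⟨q.asIdeal.comap (algebraMap R A), inferInstance⟩
    refine Set.mem_iUnion.2 ⟨⟨min (a - d) a₀, min_le_right _ _⟩, ?_⟩
    exact (flatAt'_iff q.asIdeal _).1 (exists_flatAt' ψ hψ E c hc hf q.asIdeal a ha' _ (min_le_left _ _))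
  obtain ⟨s, hs⟩ := isCompact_univ.elim_finite_subcover U hU hcov
  obtain ⟨j₀, hj₀⟩ : ∃ j₀ : ℤ, j₀ ≤ a₀ ∧ ∀ j ∈ s, j₀ ≤ j.1 := by
    classical
    refine ⟨(insert a₀ (s.image Subtype.val)).min' (Finset.insert_nonempty _ _),
      Finset.min'_le _ _ (Finset.mem_insert_self _ _), fun j hj => ?_⟩
    exact Finset.min'_le _ _ (Finset.mem_insert_of_mem (Finset.mem_image_of_mem _ hj))
  have hflat : Module.Flat R (coker E j₀) := by
    refine Module.flat_of_isLocalized_maximal (R := R) (S := A) (M := coker E j₀)
      (fun P _ => LocalizedModule P.primeCompl (coker E j₀))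
      (fun P _ => LocalizedModule.mkLinearMap P.primeCompl (coker E j₀)) fun P hP => ?_
    obtain ⟨j, hj, hq⟩ := Set.mem_iUnion₂.1 (hs (Set.mem_univ (⟨P, hP.isPrime⟩ : PrimeSpectrum A)))
    refine (flatAt'_iff P _).1 (hdown (j.1 - j₀).toNat j₀ ?_ ⟨P, hP.isPrime⟩ ?_)
    · have := hj₀.2 j hj; have := j.2; omega
    · rw [show j₀ + ((j.1 - j₀).toNat : ℤ) = j.1 by have := hj₀.2 j hj; omega]
      exact (flatAt'_iff P _).2 hq
  have : QuasiIso (Trunc.tauGEπ E j₀) := Trunc.quasiIso_tauGEπ E j₀ fun i hi => hex i (by omega)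
  refine isRelPerfect_of_terms (Trunc.tauGE E j₀) j₀ c (Trunc.vanishesOutside_tauGE E j₀ hc) (fun i => ?_)
    ((asIso (DerivedCategory.Q.map (Trunc.tauGEπ E j₀))).symm ≪≫ e)
  rcases lt_trichotomy i j₀ with hi | rfl | hi
  · have h0 := Trunc.tauGE_X_isZero E j₀ hi
    have := ModuleCat.subsingleton_of_isZero h0
    have : Subsingleton ((ModuleCat.restrictScalars.{u} (algebraMap R A)).obj ((Trunc.tauGE E j₀).X i)) :=
      ModuleCat.subsingleton_of_isZero ((ModuleCat.restrictScalars.{u} (algebraMap R A)).map_isZero h0)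
    exact ⟨inferInstance, inferInstance⟩
  · let l : coker E i ≃ₗ[A] (E.X i ⧸ Trunc.killSub E i i) :=
      Submodule.quotEquivOfEq _ _ (Trunc.killSub_eq_range E i).symm
    exact ⟨Module.FinitePresentation.of_equiv l, @Module.Flat.of_linearEquiv R (coker E i)
      ((ModuleCat.restrictScalars.{u} (algebraMap R A)).obj ((Trunc.tauGE E i).X i)) _ _ _ _ _ hflat
      { toFun := fun x => l.symm x
        invFun := fun x => l x
        left_inv := fun x => l.apply_symm_apply x
        right_inv := fun x => l.symm_apply_apply x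
        map_add' := fun x y => map_add l.symm x y
        map_smul' := fun r x => l.symm.map_smul (algebraMap R A r) x }⟩
  · let e' := Trunc.tauGE_XIso E j₀ hi
    have := (hf i).1
    have := (hf i).2
    have : Module.FinitePresentation A (E.X i) := Module.finitePresentation_of_projective _ _
    have hRf : Module.Flat R ((ModuleCat.restrictScalars.{u} (algebraMap R A)).obj (E.X i)) := by
      let N : Type u := E.X i
      letI : Module R N := Module.compHom N (algebraMap R A)
      haveI : IsScalarTower R A N := IsScalarTower.of_algebraMap_smul fun _ _ => rfl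
      haveI : Module.Flat A N := hfl i
      exact Module.Flat.trans R A N
    exact ⟨Module.FinitePresentation.of_equiv e'.symm.toLinearEquiv,
      @Module.Flat.of_linearEquiv R ((ModuleCat.restrictScalars.{u} (algebraMap R A)).obj (E.X i))
        ((ModuleCat.restrictScalars.{u} (algebraMap R A)).obj ((Trunc.tauGE E j₀).X i))
        _ _ _ _ _ hRf (((ModuleCat.restrictScalars.{u} (algebraMap R A)).mapIso e').toLinearEquiv)⟩

end Groth.Agent.DRing.RelPerf10
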