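import Groth.Prelude.Def_DualSh
import Groth.Agent.DRing.Perfect
import Groth.Agent.DRing.TensorAmp
import Groth.Agent.FlatMor.PC.Flat
import Mathlib.Algebra.TrivSqZeroExt.Basic
import Mathlib.RingTheory.Finiteness.ModuleFinitePresentation
import Mathlib.RingTheory.Flat.Stability

/-!
# R-perfect objects as bounded complexes of finitely presented R-flat modules
-/

set_option linter.all false

universe u

open CategoryTheory CategoryTheory.Limits DerivedCategory MonoidalCategory

attribute [local instance] HasDerivedCategory.standard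

namespace Groth.Agent.DRing.RelPerf10

open DBasic Homology KFlat

variable {R A : Type u} [CommRing R] [CommRing A] [Algebra R A]

/-- A finitely presented module, flat over the base of a flat finitely presented algebra, is
pseudo-coherent. -/
theorem pcModule'_of_fp_flat [Module.Flat R A] [Algebra.FinitePresentation R A]
    (M : Type u) [AddCommGroup M] [Module A M] [Module R M] [IsScalarTower R A M]
    [Module.FinitePresentation A M] [Module.Flat R M] : DRing.IsPseudoCoherentModule' A M := by
  letI : Module Aᵐᵒᵖ M := Module.compHom M ((RingHom.id A).fromOpposite mul_comm)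
  haveI : IsCentralScalar A M := ⟨fun _ _ => rfl⟩
  let T := TrivSqZeroExt A M
  let e : (A × M) ≃ₗ[A] T :=
    { toFun := id, invFun := id, left_inv := fun _ => rfl, right_inv := fun _ => rfl
      map_add' := fun _ _ => rfl, map_smul' := fun _ _ => rfl }
  haveI : IsScalarTower R Aᵐᵒᵖ M := ⟨fun r a m => by
    obtain ⟨a, rfl⟩ := MulOpposite.op_surjective a
    rw [← MulOpposite.op_smul, op_smul_eq_smul, op_smul_eq_smul, smul_assoc]⟩
  haveI : IsScalarTower R A T := IsScalarTower.of_algebraMap_eq fun _ => rfl
  haveI : Module.FinitePresentation A T := Module.FinitePresentation.of_equiv e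
  haveI : Algebra.FinitePresentation R T := Algebra.FinitePresentation.trans R A T
  haveI : Module.Flat R (A × M) := by
    rw [Module.Flat.iff_lTensor_preserves_injective_linearMap]
    intro N N' _ _ _ _ f hf
    let τ := TensorProduct.prodLeft R R A M N
    let τ' := TensorProduct.prodLeft R R A M N'
    have hc : ∀ x, τ' (f.lTensor (A × M) x) = ((f.lTensor A).prodMap (f.lTensor M)) (τ x) := by
      intro x
      induction x using TensorProduct.induction_on with
      | zero => simp only [map_zero]
      | tmul p n => obtain ⟨p1, p2⟩ := p; simp [τ, τ']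
      | add x y hx hy => simp only [map_add, hx, hy]
    intro x y hxy
    apply τ.injective
    have := congrArg τ' hxy
    rw [hc, hc] at this
    exact Prod.ext (Module.Flat.lTensor_preserves_injective_linearMap f hf (congrArg Prod.fst this))
      (Module.Flat.lTensor_preserves_injective_linearMap f hf (congrArg Prod.snd this))
  haveI : Module.Flat R T := Module.Flat.of_linearEquiv (R := R)
    ({ toFun := id, invFun := id, left_inv := fun _ => rfl, right_inv := fun _ => rfl
       map_add' := fun _ _ => rfl, map_smul' := fun _ _ => rfl } : T ≃ₗ[R] A × M)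
  have h1 : MoreMor.IsPseudoCoherentHom R A := Agent.FlatMor.PC.pcHom_of_flat_fp
  have h2 : MoreMor.IsPseudoCoherentHom R T := Agent.FlatMor.PC.pcHom_of_flat_fp
  have hT : DRing.IsPseudoCoherentModule' A T :=
    Agent.FlatMor.PC.pcHom_iff_of_finite.1 (Agent.FlatMor.PC.pcHom_of_comp h1 h2)
  have hAM : DRing.IsPseudoCoherentModule' A (A × M) :=
    (PC.pc'_iff _).2 fun m => PC.pcModule_congr e.symm ((PC.pc'_iff _).1 hT m)
  obtain ⟨Tr, hTr, e1, e2, e3⟩ :=
    PC.exists_triangle_of_surjective (LinearMap.snd A A M) (fun x => ⟨(0, x), rfl⟩)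
  let k : LinearMap.ker (LinearMap.snd A A M) ≃ₗ[A] A :=
    { toFun := fun x => x.1.1
      invFun := fun a => ⟨(a, 0), rfl⟩
      left_inv := fun x => Subtype.ext (Prod.ext rfl (x.2 : x.1.2 = 0).symm)
      right_inv := fun _ => rfl
      map_add' := fun _ _ => rfl
      map_smul' := fun _ _ => rfl }
  have hk : DRing.IsPseudoCoherentModule' A (LinearMap.ker (LinearMap.snd A A M)) :=
    (PC.pc'_iff _).2 fun m => PC.pcModule_congr k.symm ((PC.pc'_iff _).1 PC.pcModule'_of_finiteFree m)
  show DRing.IsPseudoCoherent' A (Dual.inD A M)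
  rw [← e3]
  exact PC.pc'_cone hTr (by rw [e1]; exact hk) (by rw [e2]; exact hAM)

/-- A bounded complex of finitely presented modules flat over the base is relatively perfect. -/
theorem isRelPerfect_of_terms [Module.Flat R A] [Algebra.FinitePresentation R A] {K : Dual.D A}
    (E : DRing.Cx A) (a b : ℤ) (hE : DRing.VanishesOutside E a b)
    (hf : ∀ i : ℤ, Module.FinitePresentation A (E.X i) ∧
      Module.Flat R ((ModuleCat.restrictScalars (algebraMap R A)).obj (E.X i)))
    (e : DRing.toD E ≅ K) : Dual2.IsRelPerfect R A K := by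
  refine ⟨PC.pc'_of_iso e ?_, a, b, (DRing.restrictCx (algebraMap R A)).obj E,
    fun i hi => (ModuleCat.restrictScalars.{u} (algebraMap R A)).map_isZero (hE i hi),
    fun i => (hf i).2, ⟨TensorAmp.restrictDIso (algebraMap R A) e⟩⟩
  refine (PC.pc'_iff _).2 fun m => PC.pc_of_terms E (fun i hi => hE i (Or.inr hi)) fun i _ => ?_
  let N : Type u := E.X i
  letI : Module R N := Module.compHom N (algebraMap R A)
  haveI : IsScalarTower R A N := IsScalarTower.of_algebraMap_smul fun _ _ => rfl
  haveI : Module.FinitePresentation A N := (hf i).1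
  haveI : Module.Flat R N := (hf i).2
  exact (PC.pc'_iff _).1 (pcModule'_of_fp_flat (R := R) N) _

/-- Truncating a finite free resolution of an object of finite tor dimension. -/
theorem exists_flat_rep [Module.Flat R A] {K : Dual.D A} {a b : ℤ}
    (hK : DRing.IsPseudoCoherent' A K)
    (h : DRing.HasTorAmplitudeIn R a b ((DRing.restrictD (algebraMap R A)).obj K)) :
    ∃ (E : DRing.Cx A) (c : ℤ), DRing.VanishesOutside E a c ∧
        (∀ i : ℤ, Module.FinitePresentation A (E.X i) ∧
          Module.Flat R ((ModuleCat.restrictScalars (algebraMap R A)).obj (E.X i))) ∧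
        Nonempty (DRing.toD E ≅ K) := by
  obtain ⟨P, c, hc, hf, ⟨e⟩⟩ := hK
  let Q := (DRing.restrictCx (algebraMap R A)).obj P
  have hQf : ∀ i, Module.Flat R (Q.X i) := fun i => by
    let N : Type u := P.X i
    letI : Module R N := Module.compHom N (algebraMap R A)
    haveI : IsScalarTower R A N := IsScalarTower.of_algebraMap_smul fun _ _ => rfl
    haveI : Module.Free A N := (hf i).2
    exact Module.Flat.trans R A N
  have hQ : IsKFlat Q := isKFlat_of_boundedAbove_flat _ c
    (fun i hi => (ModuleCat.restrictScalars.{u} (algebraMap R A)).map_isZero (hc i hi)) hQf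
  have hT := (TorAmp.hasTorAmp_iff hQ (TensorAmp.restrictDIso (algebraMap R A) e) a b).1 h
  have hex : ∀ i, i < a → P.ExactAt i := fun i hi =>
    (TensorAmp.exactAt_restrictCx_iff (algebraMap R A) P i).1
      ((TorAmp.exactAt_tensor_self Q i).1 (hT _ i (Or.inl hi)))
  have : QuasiIso (Trunc.tauGEπ P a) := Trunc.quasiIso_tauGEπ P a hex
  refine ⟨Trunc.tauGE P a, c, Trunc.vanishesOutside_tauGE P a hc, fun i => ?_,
    ⟨(asIso (DerivedCategory.Q.map (Trunc.tauGEπ P a))).symm ≪≫ e⟩⟩
  rcases lt_trichotomy i a with hi | rfl | hi
  · have h0 := Trunc.tauGE_X_isZero P a hi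
    have := ModuleCat.subsingleton_of_isZero h0
    have : Subsingleton ((ModuleCat.restrictScalars.{u} (algebraMap R A)).obj ((Trunc.tauGE P a).X i)) :=
      ModuleCat.subsingleton_of_isZero ((ModuleCat.restrictScalars.{u} (algebraMap R A)).map_isZero h0)
    exact ⟨inferInstance, inferInstance⟩
  · have := (hf i).1
    have := (hf (i - 1)).1
    have := (hf i).2
    have : Module.FinitePresentation A (P.X i) := Module.finitePresentation_of_projective _ _
    have : Module.FinitePresentation A (P.X i ⧸ Trunc.killSub P i i) :=
      Module.finitePresentation_of_surjective (Trunc.killSub P i i).mkQ (Submodule.mkQ_surjective _)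
        (by rw [Submodule.ker_mkQ, Trunc.killSub_eq_range]; exact Module.Finite.iff_fg.1 inferInstance)
    refine ⟨this, ?_⟩
    have hF := TorAmp.flat_coker hQf i fun M => hT M (i - 1) (Or.inl (by omega))
    let l : (P.X i) →+ ((ModuleCat.restrictScalars.{u} (algebraMap R A)).obj ((Trunc.tauGE P i).X i)) :=
      (Trunc.killSub P i i).mkQ.toAddMonoidHom
    let L : Q.X i →ₗ[R] (ModuleCat.restrictScalars.{u} (algebraMap R A)).obj ((Trunc.tauGE P i).X i) :=
      { toFun := fun x => l x
        map_add' := map_add l
        map_smul' := fun r x => (Trunc.killSub P i i).mkQ.map_smul (algebraMap R A r) x }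
    have hL : Function.Surjective L := Submodule.mkQ_surjective (Trunc.killSub P i i)
    have hker : LinearMap.range (Q.d (i - 1) i).hom = LinearMap.ker L := by
      ext x
      rw [LinearMap.mem_ker]
      show _ ↔ (Trunc.killSub P i i).mkQ x = 0
      rw [← LinearMap.mem_ker, Submodule.ker_mkQ, Trunc.killSub_eq_range]
      rfl
    exact Module.Flat.of_linearEquiv
      (((Submodule.quotEquivOfEq _ _ hker).trans (L.quotKerEquivOfSurjective hL)).symm)
  · let e' := Trunc.tauGE_XIso P a hi
    have := (hf i).1
    have := (hf i).2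
    have : Module.FinitePresentation A (P.X i) := Module.finitePresentation_of_projective _ _
    exact ⟨Module.FinitePresentation.of_equiv e'.symm.toLinearEquiv,
      @Module.Flat.of_linearEquiv R (Q.X i) ((ModuleCat.restrictScalars.{u} (algebraMap R A)).obj ((Trunc.tauGE P a).X i))
        _ _ _ _ _ (hQf i) (((ModuleCat.restrictScalars.{u} (algebraMap R A)).mapIso e').toLinearEquiv)⟩

end Groth.Agent.DRing.RelPerf10
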