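import Groth.Agent.DRing.RelPerf10.FlatTerms
import Groth.Agent.DRing.FlatFibres
import Groth.Agent.DRing.RelPC
import Groth.Agent.DRing.RelPCFinite
import Groth.Agent.DRing.FlatBCModule
import Groth.Agent.DualCx.ShriekFlatAmp
import Groth.Agent.S6940
import Mathlib.RingTheory.Localization.BaseChange
import Mathlib.RingTheory.LocalRing.ResidueField.Basic

/-!
# Tor amplitude of a localization from the fibre
-/

set_option linter.all false

universe u

open CategoryTheory CategoryTheory.Limits DerivedCategory MonoidalCategory
open scoped TensorProduct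

attribute [local instance] HasDerivedCategory.standard

namespace Groth.Agent.DRing.RelPerf10

open DBasic Homology KFlat

/-- The fibre of a localized polynomial ring has global dimension at most the number of variables. -/
theorem pd_localized (R : Type u) [CommRing R] (d : ℕ) (k : Type u) [Field k] [Algebra R k]
    (Q : Ideal (MvPolynomial (Fin d) R)) [Q.IsPrime]
    (M : ModuleCat.{u} (k ⊗[R] Localization.AtPrime Q)) : HasProjectiveDimensionLT M (d + 1) := by
  let P := MvPolynomial (Fin d) R
  let C₀ := k ⊗[R] P
  let C := k ⊗[R] Localization.AtPrime Q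
  letI : Algebra C₀ C :=
    (Algebra.TensorProduct.map (AlgHom.id R k) (IsScalarTower.toAlgHom R P (Localization.AtPrime Q))).toAlgebra
  haveI : IsScalarTower k C₀ C := IsScalarTower.of_algebraMap_eq (R := k) (S := C₀) (A := C) fun x => by
    show x ⊗ₜ[R] (1 : Localization.AtPrime Q) = x ⊗ₜ[R] algebraMap P (Localization.AtPrime Q) 1
    rw [map_one]
  let S : Submonoid C₀ := Q.primeCompl.map (Algebra.TensorProduct.includeRight (R := R) (A := k))
  haveI : IsLocalization S C := IsLocalization.tensorProduct_tensorProduct_right R k Q.primeCompl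
    (Localization.AtPrime Q) (by ext x <;> rfl)
  haveI : Module.Flat C₀ C := IsLocalization.flat C S
  let N : Type u := M
  letI : Module C₀ N := Module.compHom N (algebraMap C₀ C)
  haveI : IsScalarTower C₀ C N := IsScalarTower.of_algebraMap_smul fun _ _ => rfl
  exact RegLoc.PD.pd_congr (IsLocalization.moduleLid S C N) d
    (RegLoc.PD.pd_baseChange_of_flat C d N (DualCx.ShriekFlatAmp.pd_tensor_polynomial R d k N))

variable {R A : Type u} [CommRing R] [CommRing A] [Algebra R A] {d : ℕ}

/-- The localization of a presentation makes `A_q` pseudo-coherent over `P_Q`. -/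
theorem pcModule'_localization [Module.Flat R A] [Algebra.FinitePresentation R A]
    (ψ : MvPolynomial (Fin d) R →ₐ[R] A) (hψ : Function.Surjective ψ) (q : Ideal A) [q.IsPrime] :
    letI := (Localization.localRingHom (q.comap ψ.toRingHom) q ψ.toRingHom rfl).toAlgebra
    DRing.IsPseudoCoherentModule' (Localization.AtPrime (q.comap ψ.toRingHom)) (Localization.AtPrime q) := by
  let P := MvPolynomial (Fin d) R
  let Q : Ideal P := q.comap ψ.toRingHom
  let P' := Localization.AtPrime Q
  let L := Localization.AtPrime q
  letI : Algebra P' L := (Localization.localRingHom Q q ψ.toRingHom rfl).toAlgebra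
  letI : Algebra P A := ψ.toRingHom.toAlgebra
  haveI : IsScalarTower P A L := inferInstance
  haveI : IsScalarTower P P' L := IsScalarTower.of_algebraMap_eq fun x =>
    (Localization.localRingHom_to_map Q q ψ.toRingHom rfl x).symm
  haveI : IsScalarTower R P A := IsScalarTower.of_algebraMap_eq fun x => (ψ.commutes x).symm
  have h1 : MoreMor.IsPseudoCoherentHom R P := Agent.FlatMor.PC.pcHom_of_flat_fp
  have h2 : MoreMor.IsPseudoCoherentHom R A := Agent.FlatMor.PC.pcHom_of_flat_fp
  have hA : DRing.IsPseudoCoherentModule' P A :=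
    (Agent.FlatMor.PC.pcHom_iff_of_surjective hψ).1 (Agent.FlatMor.PC.pcHom_of_comp h1 h2)
  have hmap : Algebra.algebraMapSubmonoid A Q.primeCompl = q.primeCompl := by
    ext x
    constructor
    · rintro ⟨y, hy, rfl⟩; exact hy
    · intro hx
      obtain ⟨y, rfl⟩ := hψ x
      exact ⟨y, hx, rfl⟩
  haveI : IsLocalization (Algebra.algebraMapSubmonoid A Q.primeCompl) L := by rw [hmap]; infer_instance
  haveI : Algebra.IsPushout P A P' L := Algebra.isPushout_of_isLocalization Q.primeCompl P' A L
  haveI : Algebra.IsPushout P P' A L := Algebra.IsPushout.symm inferInstance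
  have hb : IsBaseChange P' (IsScalarTower.toAlgHom P A L).toLinearMap := Algebra.IsPushout.out
  have h3 := RelPC.pcModule'_tensor (P := P) (Q := P') hA
  exact (PC.pc'_iff _).2 fun m => PC.pcModule_congr hb.equiv ((PC.pc'_iff _).1 h3 m)

/-- Tor amplitude over the base from exactness on the fibre, for pseudo-coherent objects over a
localization of a flat algebra of finite presentation. -/
theorem torAmp_of_fibre [Module.Flat R A] [Algebra.FinitePresentation R A]
    (ψ : MvPolynomial (Fin d) R →ₐ[R] A) (hψ : Function.Surjective ψ) (q : Ideal A) [q.IsPrime]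
    (p : Ideal R) [p.IsPrime] (hpq : p = Ideal.comap (algebraMap R A) q)
    (F : DRing.Cx (Localization.AtPrime q)) (c : ℤ) (hc : DRing.VanishesAbove F c)
    (hF : ∀ i, Module.Flat (Localization.AtPrime q) (F.X i))
    (hpc : DRing.IsPseudoCoherent' (Localization.AtPrime q) (DRing.toD F)) (a b : ℤ)
    (h : ∀ i : ℤ, i < a ∨ b < i →
      (DRing.tensorCx ((DRing.restrictCx (Localization.localRingHom p q (algebraMap R A) hpq)).obj F)
        (ModuleCat.of (Localization.AtPrime p) p.ResidueField)).ExactAt i) :
    DRing.HasTorAmplitudeIn R (a - d) b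
      ((DRing.restrictD (algebraMap R (Localization.AtPrime q))).obj (DRing.toD F)) := by
  let P := MvPolynomial (Fin d) R
  let Q : Ideal P := q.comap ψ.toRingHom
  let P' := Localization.AtPrime Q
  let L := Localization.AtPrime q
  let Rp := Localization.AtPrime p
  let k := p.ResidueField
  let σ : P' →+* L := Localization.localRingHom Q q ψ.toRingHom rfl
  have hpQ : p = Ideal.comap (algebraMap R P) Q := by
    rw [hpq, Ideal.comap_comap]
    congr 1
    exact RingHom.ext fun x => (ψ.commutes x).symm
  let τ : Rp →+* P' := Localization.localRingHom p Q (algebraMap R P) hpQ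
  letI : Algebra Rp P' := τ.toAlgebra
  haveI : IsScalarTower R Rp P' := IsScalarTower.of_algebraMap_eq fun x => by
    rw [RingHom.algebraMap_toAlgebra, Localization.localRingHom_to_map]
    exact IsScalarTower.algebraMap_apply R P P' x
  haveI : Module.Flat R P' := Module.Flat.trans R P P'
  haveI : Module.Flat Rp P' :=
    (Module.flat_iff_of_isLocalization Rp p.primeCompl (M := P')).2 inferInstance
  have hστ : σ.comp τ = Localization.localRingHom p q (algebraMap R A) hpq := by
    refine (Localization.localRingHom_unique p q (algebraMap R A) hpq fun x => ?_).symm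
    show σ (τ (algebraMap R Rp x)) = _
    rw [Localization.localRingHom_to_map, Localization.localRingHom_to_map]
    exact congrArg _ (ψ.commutes x)
  letI : Algebra P' L := σ.toAlgebra
  have hmod := pcModule'_localization ψ hψ q
  have hK : DRing.IsPseudoCoherent' P' ((DRing.restrictD σ).obj (DRing.toD F)) :=
    (Agent.S6940.result hmod (DRing.toD F) 0).2.1 hpc
  obtain ⟨E, c', hc', hf', ⟨e'⟩⟩ := hK
  have hfl : ∀ i, Module.Flat P' (E.X i) := fun i => have := (hf' i).2; inferInstance
  have hflat : IsKFlat E := KFlat.isKFlat_of_boundedAbove_flat _ c' hc' hfl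
  -- the restrictions to `R_p`
  letI : Algebra Rp L := (Localization.localRingHom p q (algebraMap R A) hpq).toAlgebra
  haveI : Module.Flat Rp L := by
    haveI : Module.Flat R L := Module.Flat.trans R A L
    haveI : IsScalarTower R Rp L := IsScalarTower.of_algebraMap_eq fun x => by
      rw [RingHom.algebraMap_toAlgebra, Localization.localRingHom_to_map]
      exact IsScalarTower.algebraMap_apply R A L x
    exact (Module.flat_iff_of_isLocalization Rp p.primeCompl (M := L)).2 inferInstance
  have hX : IsKFlat ((DRing.restrictCx τ).obj E) := FlatFibres.isKFlat_restrictCx (A := Rp) hc' hfl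
  have hY : IsKFlat ((DRing.restrictCx (Localization.localRingHom p q (algebraMap R A) hpq)).obj F) := by
    exact FlatFibres.isKFlat_restrictCx (A := Rp) hc hF
  obtain ⟨j⟩ := RelPC.nonempty_restrictComp τ σ (DRing.toD F)
  rw [hστ] at j
  have hfib : ∀ i : ℤ, i < a ∨ b < i →
      (DRing.tensorCx ((DRing.restrictCx τ).obj E) (ModuleCat.of Rp k)).ExactAt i := fun i hi =>
    (TorAmp.exactAt_tensor_congr hX hY
      (TensorAmp.restrictDIso τ e' ≪≫ j.symm ≪≫
        (TensorAmp.restrictDIso (Localization.localRingHom p q (algebraMap R A) hpq) (Iso.refl _)).symm) _ i).2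
      (h i hi)
  haveI := fun m : Ideal P' => LTensor.hasLBaseChange (A := P') (B := P' ⧸ m) (Ideal.Quotient.mk m)
  haveI : IsScalarTower R Rp k := inferInstance
  have key := FlatFibres.perfect_of_factor ((DRing.restrictD σ).obj (DRing.toD F))
    ⟨E, c', hc', hf', ⟨e'⟩⟩ hflat e' d a b fun m hm => by
      obtain rfl := IsLocalRing.eq_maximalIdeal hm
      let g₁ : k →+* P' ⧸ IsLocalRing.maximalIdeal P' := IsLocalRing.ResidueField.map τ
      have hg₁ : ∀ r : R, g₁ (algebraMap R k r) = algebraMap R (P' ⧸ IsLocalRing.maximalIdeal P') r := by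
        intro r
        rw [IsScalarTower.algebraMap_apply R Rp k]
        show Ideal.Quotient.mk _ (τ (algebraMap R Rp r)) = Ideal.Quotient.mk _ (algebraMap R P' r)
        rw [Localization.localRingHom_to_map, ← IsScalarTower.algebraMap_apply R P P']
      let g : k ⊗[R] P' →+* P' ⧸ IsLocalRing.maximalIdeal P' := (Algebra.TensorProduct.lift
        (⟨g₁, hg₁⟩ : k →ₐ[R] P' ⧸ IsLocalRing.maximalIdeal P')
        (Ideal.Quotient.mkₐ R (IsLocalRing.maximalIdeal P')) fun x y => @Commute.all (P' ⧸ IsLocalRing.maximalIdeal P') (Ideal.Quotient.commRing _).toCommMagma _ _).toRingHom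
      let χ : P' →+* k ⊗[R] P' := (Algebra.TensorProduct.includeRight : P' →ₐ[R] k ⊗[R] P').toRingHom
      refine ⟨k ⊗[R] P', inferInstance, χ, g, RingHom.ext fun x => ?_, fun M => pd_localized R d k Q M,
        FlatFibres.isKFlat_extCx _ hc' hfl, fun i hi => ?_⟩
      · change g₁ 1 * Ideal.Quotient.mk _ x = _
        rw [map_one, one_mul]
      · let μ : k ⊗[Rp] P' ≃ₗ[Rp] k ⊗[R] P' := IsLocalization.moduleTensorEquiv p.primeCompl Rp k P'
        have hμ : ∀ (x : k) (y : P'), μ (x ⊗ₜ y) = x ⊗ₜ y := fun x y => rfl
        let v : P' ⊗[Rp] k ≃ₗ[P'] (ModuleCat.restrictScalars.{u} χ).obj (ModuleCat.of _ (k ⊗[R] P')) :=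
          { (TensorProduct.comm Rp P' k ≪≫ₗ μ).toAddEquiv with
            map_smul' := fun r x => by
              change μ (TensorProduct.comm Rp P' k (r • x)) = χ r * μ (TensorProduct.comm Rp P' k x)
              induction x using TensorProduct.induction_on with
              | zero => simp
              | tmul s t =>
                rw [TensorProduct.smul_tmul', TensorProduct.comm_tmul, TensorProduct.comm_tmul, hμ, hμ]
                show t ⊗ₜ[R] (r * s) = ((1 : k) ⊗ₜ[R] r) * (t ⊗ₜ[R] s)
                rw [Algebra.TensorProduct.tmul_mul_tmul, one_mul]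
              | add x y hx hy => simp only [smul_add, map_add, mul_add, hx, hy] }
        exact (FlatFibres.exactAt_tensor_restrict_iff k χ v E i).1 (hfib i hi)
  obtain ⟨G, hG, hGf, ⟨eG⟩⟩ := key.2
  obtain ⟨j2⟩ := RelPC.nonempty_restrictComp (algebraMap R P') σ (DRing.toD F)
  have hσ : σ.comp (algebraMap R P') = algebraMap R L := RingHom.ext fun x => by
    show σ (algebraMap R P' x) = _
    rw [IsScalarTower.algebraMap_apply R P P', Localization.localRingHom_to_map]
    show algebraMap A L (ψ (algebraMap R P x)) = _
    rw [ψ.commutes, ← IsScalarTower.algebraMap_apply]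
  rw [hσ] at j2
  refine ⟨(DRing.restrictCx (algebraMap R P')).obj G,
    fun i hi => (ModuleCat.restrictScalars.{u} (algebraMap R P')).map_isZero (hG i hi), fun i => ?_,
    ⟨TensorAmp.restrictDIso (algebraMap R P') eG ≪≫ j2.symm⟩⟩
  let N : Type u := G.X i
  letI : Module R N := Module.compHom N (algebraMap R P')
  haveI : IsScalarTower R P' N := IsScalarTower.of_algebraMap_smul fun _ _ => rfl
  haveI : Module.Flat P' N := hGf i
  exact Module.Flat.trans R P' N

end Groth.Agent.DRing.RelPerf10
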